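import Cfsg.Agent.H419.EP.Soc
import Cfsg.Agent.H419.EP.Targets
import Cfsg.Agent.H117.EP.ModelPSL
import Cfsg.Agent.H277.ClsPsl
import Cfsg.Agent.H277.CS.PslTop
import Cfsg.Agent.H334.KW.Small
import Cfsg.Agent.UGT.End.MEleven
import Cfsg.Agent.H59.EP.UBGenFin
import Cfsg.Agent.H96.EPM.MEleven
import Cfsg.Agent.S5794
import Cfsg.Agent.S0813
import Cfsg.Agent.S0815

/-!
# S3499, row S5794: `SL₅(q)`, residual class (helper223)
-/

set_option autoImplicit false

namespace Cfsg.Agent.H223.EP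

open Cfsg Cfsg.Agent.H419.EP Cfsg.Agent.H284
open scoped MatrixGroups

section Gen

variable {Q : Type*} [Group Q] {ι : Type} [Fintype ι] [DecidableEq ι] {F : Type*} [Field F] {S : Subgroup (GL ι F)}

/-- two models of the same matrix group are isomorphic -/
theorem model_unique {Q' : Type*} [Group Q'] (m : Model Q S) (m' : Model Q' S) : Nonempty (Q ≃* Q') := by
  have h : m.π.ker = m'.π.ker := by
    ext s
    rw [MonoidHom.mem_ker, MonoidHom.mem_ker, m.ker, m'.ker]
  exact ⟨(QuotientGroup.quotientKerEquivOfSurjective m.π m.surj).symm.trans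
    ((QuotientGroup.quotientMulEquivOfEq h).trans (QuotientGroup.quotientKerEquivOfSurjective m'.π m'.surj))⟩

/-- the order of `Q = SL_n(F) / scalars` -/
theorem card_eq_psl {n : ℕ} {F : Type*} [Field F] (m : Model Q (Cfsg.Geo.specialLinear (Fin n) F)) (hn : 2 ≤ n) :
    Nat.card Q = Nat.card (Matrix.ProjectiveSpecialLinearGroup (Fin n) F) := by
  obtain ⟨m'⟩ := Cfsg.Agent.H117.EP.model_PSL (F := F) hn
  obtain ⟨e⟩ := model_unique m m'
  exact Nat.card_congr e.toEquiv

/-- the order of `Q = SU_n(q) / scalars` -/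
theorem card_eq_psu {n q : ℕ} {F : Type*} [Field F] [Fintype F] (hF : Fintype.card F = q ^ 2)
    (m : Model Q (Cfsg.GU n F q ⊓ Cfsg.Geo.specialLinear (Fin n) F)) (hn : 3 ≤ n) :
    Nat.card Q = Nat.card (Cfsg.PSU n F q) := by
  obtain ⟨m'⟩ := Cfsg.Agent.H117.EP.model_PSU (F := F) (q := q) hF hn
  obtain ⟨e⟩ := model_unique m m'
  exact Nat.card_congr e.toEquiv

/-- `|Q| ≤ |Q : A| |Aut L|` -/
theorem card_le_of_soc [Finite Q] {A : Subgroup Q} {L : Type*} [Group L] [Finite L] (h : HasSoc A L) {a b : ℕ}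
    (ha : Nat.card (MulAut L) ≤ a) (hb : A.index ≤ b) : Nat.card Q ≤ b * a := by
  rw [← A.index_mul_card]
  exact Nat.mul_le_mul hb (h.card_le.trans ha)

end Gen

/-! ### automorphism groups -/

theorem card_mulAut_congr {X Y : Type*} [Group X] [Group Y] (e : X ≃* Y) :
    Nat.card (MulAut X) = Nat.card (MulAut Y) := Nat.card_congr (MulAut.congr e).toEquiv

theorem card_aut_L211 {L : Type*} [Group L] (e : L ≃* Matrix.ProjectiveSpecialLinearGroup (Fin 2) (ZMod 11)) :
    Nat.card (MulAut L) = 1320 := by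
  have : Fact (Nat.Prime 11) := ⟨by norm_num⟩
  have h1 := Cfsg.Agent.S0813.result (F := ZMod 11) 11 1 le_rfl (by rw [ZMod.card, pow_one]) 2 le_rfl
    (fun _ => by norm_num)
  have h2 := Cfsg.Agent.H277.ClsPsl.card_pgl (F := ZMod 11) (q := 11) (ZMod.card 11) (n := 2) le_rfl
  have h3 := Cfsg.Agent.H277.ClsPsl.card_psl (F := ZMod 11) (q := 11) (ZMod.card 11) (n := 2) le_rfl
  rw [card_mulAut_congr e, h1, h2, h3]
  simp [Finset.prod_range_succ]

theorem card_aut_U42 {L : Type*} [Group L] {K : Type} [Field K] [Fintype K] (hK : Fintype.card K = 4)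
    (e : L ≃* Cfsg.PSU 4 K 2) : Nat.card (MulAut L) = 51840 := by
  have : Fact (Nat.Prime 2) := ⟨Nat.prime_two⟩
  have h1 := Cfsg.Agent.S0815.result (F := K) 2 1 le_rfl (q := 2) rfl (by rw [hK]; norm_num) 4 (by norm_num) (by norm_num)
  rw [card_mulAut_congr e, h1, Cfsg.Agent.H334.KW.Small.card_psu42 (by rw [hK]; norm_num)]
  decide

theorem card_aut_M11 {L : Type*} [Group L] [Finite L] (h : Spor.IsoM11 L) : Nat.card (MulAut L) ≤ 7920 := by
  have h1 : Function.Surjective (MulAut.conj : L →* MulAut L) := fun φ =>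
    (Cfsg.Agent.UGT.End.MEleven.inner h φ).imp fun _ h => h.symm
  have h2 := Nat.card_le_card_of_surjective _ h1
  have h3 : Nat.card L = 7920 := (Cfsg.Agent.UGT.End.MEleven.isM11 h).2
  omega

/-! ### the general index bound of helper59 and helper173 in terms of the socle -/

theorem index_le_of_soc {Q : Type} [Group Q] [Finite Q] (hs : IsSimpleGroup Q) {A : Subgroup Q}
    {Γ : Subgroup (MulAut Q)} (h : EPT A Γ) {L : Type} [Group L] [Finite L] (hsoc : HasSoc A L)
    (hL : IsSimpleGroup L) (hLn : ¬ ∀ a b : L, a * b = b * a)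
    (l : List (ℕ × ℕ)) (h1 : ∀ x ∈ l, x.1.Prime ∧ 0 < x.2) (h2 : (l.map Prod.fst).Nodup)
    (hc : Nat.card (MulAut L) ∣ (l.map fun x => x.1 ^ x.2).prod) (hB : (l.map fun x => x.1 ^ x.2).prod < 60 ^ 61) :
    A.index ≤ 1 + ((l.map fun x => Cfsg.Agent.H59.EP.gal x.1 x.2).sum * ((l.map fun x => x.1 ^ x.2).prod / 6) +
        (l.map fun x => x.1 ^ x.2).prod ^ 2 / 60 + (l.map fun x => x.1 ^ x.2).prod ^ 3 / 12744000) *
          (2 * ((l.map fun x => x.1 ^ x.2).prod / 6)) := by
  have hd : Nat.card A ∣ (l.map fun x => x.1 ^ x.2).prod := by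
    obtain ⟨f, hf⟩ := hsoc.exists_hom
    exact (Subgroup.card_dvd_of_injective f hf).trans hc
  have hB0 : 0 < (l.map fun x => x.1 ^ x.2).prod := by
    refine Nat.pos_of_ne_zero fun h0 => ?_
    rw [List.prod_eq_zero_iff, List.mem_map] at h0
    obtain ⟨x, hx, hx0⟩ := h0
    exact pow_ne_zero _ (h1 x hx).1.ne_zero hx0
  have h3 := Cfsg.Agent.H59.EP.EPT.index_le_gen_fin hs h
    (fun K hK hKn hKab => hsoc.no_abelian hL hLn hK hKn hKab) l h1 h2 hd hB
  refine h3.trans (Nat.add_le_add_left (Nat.mul_le_mul_left _ (Nat.mul_le_mul_left _ ?_)) _)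
  exact Nat.div_le_div_right (Nat.le_of_dvd hB0 hd)

/-! ### the row -/

/-- **Row S5794**: `SL₅(q)`, residual class -/
theorem row5794 {Q : Type} [Group Q] [Finite Q] (hs : IsSimpleGroup Q) {A : Subgroup Q} {Γ : Subgroup (MulAut Q)}
    (h : EPT A Γ) {F : Type} [Field F] [Fintype F] (m : Model Q (Cfsg.Geo.specialLinear (Fin 5) F))
    (hres : Cfsg.Geo.InLinearResidualClass (m.hat A)) : False := by
  obtain ⟨P, p, hP, hp, hF, hcase⟩ := Cfsg.Agent.S5794.result (m.hat A) (m.isMaximalIn h.max) hres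
  have hsoc := hasSoc_of_core m hP
  have hQ := card_eq_psl m (by norm_num)
  have hLs := hP.simple
  have hLn : ¬ ∀ a b : P ⧸ (Cfsg.Geo.scalars (Fin 5) F).subgroupOf P, a * b = b * a := fun hab =>
    hP.nonabelian ⟨⟨hab⟩⟩
  rcases hcase with ⟨⟨e⟩, hp3, hmod⟩ | ⟨⟨e⟩, hp3⟩ | ⟨⟨K, _, _, hK, ⟨e⟩⟩, hmod⟩
  · have h2 := index_le_of_soc hs h hsoc hLs hLn [(2, 3), (3, 1), (5, 1), (11, 1)] (by
      intro x hx
      simp only [List.mem_cons, List.not_mem_nil, or_false] at hx
      rcases hx with rfl | rfl | rfl | rfl <;> norm_num) (by decide) (by rw [card_aut_L211 e]; decide)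
      (by norm_num)
    have h3 := card_le_of_soc hsoc (card_aut_L211 e).le h2
    have h4 := Cfsg.Agent.H277.CS.le_card_psl hF (n := 5) (by norm_num)
    have hp4 : 4 ≤ p := by
      have := hp.two_le
      by_contra hlt
      have : p = 2 ∨ p = 3 := by omega
      rcases this with rfl | rfl
      · omega
      · exact hp3 rfl
    have h5 : 4 ^ 22 ≤ p ^ (5 * 5 - 3) := Nat.pow_le_pow_left hp4 22
    rw [hQ] at h3
    have h6 := h5.trans (h4.trans h3)
    revert h6
    decide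
  · obtain ⟨N, h1, h2, h3, ⟨f⟩⟩ := hsoc
    have h5 := Cfsg.Agent.H96.EPM.m11_index h h1 h2 h3 (f.trans e)
    have h6 := card_le_of_soc ⟨N, h1, h2, h3, ⟨f⟩⟩ (card_aut_M11 ⟨e⟩) h5
    subst hp3
    have h4 := Cfsg.Agent.H277.ClsPsl.card_psl hF (n := 5) (by norm_num)
    rw [← hQ] at h4
    simp [Finset.prod_range_succ] at h4
    omega
  · have h2 := index_le_of_soc hs h hsoc hLs hLn [(2, 7), (3, 4), (5, 1)] (by
      intro x hx
      simp only [List.mem_cons, List.not_mem_nil, or_false] at hx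
      rcases hx with rfl | rfl | rfl <;> norm_num) (by decide) (by rw [card_aut_U42 hK e]; decide)
      (by norm_num)
    have h3 := card_le_of_soc hsoc (card_aut_U42 hK e).le h2
    have h4 := Cfsg.Agent.H277.CS.le_card_psl hF (n := 5) (by norm_num)
    have hp4 : 7 ≤ p := by
      have := hp.two_le
      omega
    have h5 : 7 ^ 22 ≤ p ^ (5 * 5 - 3) := Nat.pow_le_pow_left hp4 22
    rw [hQ] at h3
    have h6 := h5.trans (h4.trans h3)
    revert h6
    decide

end Cfsg.Agent.H223.EP
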